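import Mathlib
import Groth.Prelude.Def_SGA3b
import Groth.Agent.Lib.Helper6.MultType.Basic
import Groth.Agent.Lib.Helper6.MultType.PowConv
import Groth.Agent.Lib.Helper6.MultType.Finite
import Groth.Agent.Lib.Helper6.MultType.Field
import Groth.Agent.Lib.Helper6.TorsDense.TD1

/-!
# Closed subgroups of groups of multiplicative type with trivial closed fibre (helper6), part 1

Augmentation ideal tools, Nakayama over a local base, finiteness of the torsion quotients.
-/

set_option autoImplicit false
set_option linter.unusedSectionVars false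
set_option linter.unusedVariables false
set_option linter.unusedSimpArgs false
set_option linter.style.haveILetI false
set_option linter.overlappingInstances false
set_option maxHeartbeats 800000
set_option synthInstance.maxHeartbeats 400000

universe u
open TensorProduct SGA3b Coalgebra

namespace Groth.Agent.Lib.Helper6.ClTriv

open Groth.Agent.Lib.Helper6

section aug

variable {R : Type u} [CommRing R] {A : Type u} [CommRing A] [HopfAlgebra R A]

lemma sub_counit_mem (a : A) :
    a - algebraMap R A (counit (R := R) a) ∈ RingHom.ker (Bialgebra.counitAlgHom R A) := by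
  rw [RingHom.mem_ker, map_sub]
  simp

lemma mem_aug_iff (a : A) :
    a ∈ RingHom.ker (Bialgebra.counitAlgHom R A) ↔ counit (R := R) a = 0 := by
  rw [RingHom.mem_ker]
  rfl

/-- the augmentation ideal of a finitely generated Hopf algebra is finitely generated -/
lemma aug_fg (hft : Algebra.FiniteType R A) : (RingHom.ker (Bialgebra.counitAlgHom R A)).FG := by
  obtain ⟨n, π, hπ⟩ := Algebra.FiniteType.iff_quotient_mvPolynomial''.mp hft
  have h1 : (RingHom.ker ((Bialgebra.counitAlgHom R A).comp π)).FG := by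
    apply Algebra.FinitePresentation.ker_fG_of_surjective
    intro r
    obtain ⟨p, hp⟩ := hπ (algebraMap R A r)
    refine ⟨p, ?_⟩
    rw [AlgHom.comp_apply, hp, AlgHom.commutes]
    rfl
  have h2 : RingHom.ker (Bialgebra.counitAlgHom R A) =
      Ideal.map π (RingHom.ker ((Bialgebra.counitAlgHom R A).comp π)) := by
    apply le_antisymm
    · intro a ha
      obtain ⟨p, rfl⟩ := hπ a
      apply Ideal.mem_map_of_mem
      rw [RingHom.mem_ker] at ha ⊢
      exact ha
    · rw [Ideal.map_le_iff_le_comap]
      intro p hp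
      rw [Ideal.mem_comap, RingHom.mem_ker]
      rw [RingHom.mem_ker] at hp
      exact hp
  rw [h2]
  exact Ideal.FG.map h1 _

/-- elements of `𝔞A`: their counit lies in `𝔞` and they are congruent to it modulo `𝔞A·I` -/
lemma counit_mem_of_mem_map (𝔞 : Ideal R) {y : A} (hy : y ∈ Ideal.map (algebraMap R A) 𝔞) :
    counit (R := R) y ∈ 𝔞 ∧
      y - algebraMap R A (counit (R := R) y) ∈
        Ideal.map (algebraMap R A) 𝔞 * RingHom.ker (Bialgebra.counitAlgHom R A) := by
  rw [Ideal.map] at hy
  refine Submodule.span_induction ?_ ?_ ?_ ?_ hy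
  · rintro _ ⟨r, hr, rfl⟩
    constructor
    · simpa using hr
    · simp
  · simp
  · rintro x y _ _ ⟨hx1, hx2⟩ ⟨hy1, hy2⟩
    refine ⟨by rw [map_add]; exact Ideal.add_mem _ hx1 hy1, ?_⟩
    have e : x + y - algebraMap R A (counit (R := R) (x + y)) =
        (x - algebraMap R A (counit (R := R) x)) + (y - algebraMap R A (counit (R := R) y)) := by
      rw [map_add, map_add]; ring
    rw [e]
    exact Ideal.add_mem _ hx2 hy2
  · rintro a x _ ⟨hx1, hx2⟩
    rw [smul_eq_mul]
    have hc : counit (R := R) (a * x) = counit (R := R) a * counit (R := R) x :=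
      Bialgebra.counit_mul a x
    refine ⟨by rw [hc]; exact Ideal.mul_mem_left _ _ hx1, ?_⟩
    have e : a * x - algebraMap R A (counit (R := R) (a * x)) =
        a * (x - algebraMap R A (counit (R := R) x)) +
          algebraMap R A (counit (R := R) x) * (a - algebraMap R A (counit (R := R) a)) := by
      rw [hc, map_mul]; ring
    rw [e]
    refine Ideal.add_mem _ (Ideal.mul_mem_left _ _ hx2) ?_
    exact Ideal.mul_mem_mul (Ideal.mem_map_of_mem _ hx1) (sub_counit_mem a)

/-- if the closed fibres agree then `I ≤ J + 𝔞 I` -/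
lemma aug_le_sup_mul (𝔞 : Ideal R) (J : Ideal A)
    (hJ : J ≤ RingHom.ker (Bialgebra.counitAlgHom R A))
    (hs : RingHom.ker (Bialgebra.counitAlgHom R A) ≤ J ⊔ Ideal.map (algebraMap R A) 𝔞) :
    RingHom.ker (Bialgebra.counitAlgHom R A) ≤
      J ⊔ Ideal.map (algebraMap R A) 𝔞 * RingHom.ker (Bialgebra.counitAlgHom R A) := by
  intro x hx
  obtain ⟨j, hj, y, hy, rfl⟩ := Submodule.mem_sup.mp (hs hx)
  have h1 : counit (R := R) j = 0 := (mem_aug_iff j).mp (hJ hj)
  have h2 : counit (R := R) y = 0 := by
    have : counit (R := R) (j + y) = 0 := (mem_aug_iff _).mp hx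
    rw [map_add, h1, zero_add] at this
    exact this
  have h3 := (counit_mem_of_mem_map 𝔞 hy).2
  rw [h2, map_zero, sub_zero] at h3
  exact Submodule.add_mem_sup hj h3

/-- the torsion ideals lie in the augmentation ideal -/
lemma torsionIdeal_le_aug (n : ℕ) :
    torsionIdeal R A n ≤ RingHom.ker (Bialgebra.counitAlgHom R A) := by
  rw [torsionIdeal, Ideal.map_le_iff_le_comap]
  intro z hz
  rw [Ideal.mem_comap, mem_aug_iff]
  have h := MultType.bialgHom_powConv (Bialgebra.counitBialgHom R A) n z
  have hz0 : (Bialgebra.counitBialgHom R A) z = 0 := (mem_aug_iff z).mp hz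
  rw [hz0, map_zero] at h
  exact h

/-- Nakayama: over a local base, `I ≤ J' + 𝔪 I` and `A/J'` finite force `I ≤ J'` -/
lemma aug_le_of_finite_quot [IsLocalRing R] (J' : Ideal A) (hfin : Module.Finite R (A ⧸ J'))
    (hle : J' ≤ RingHom.ker (Bialgebra.counitAlgHom R A))
    (h : RingHom.ker (Bialgebra.counitAlgHom R A) ≤
      J' ⊔ Ideal.map (algebraMap R A) (IsLocalRing.maximalIdeal R) *
        RingHom.ker (Bialgebra.counitAlgHom R A)) :
    RingHom.ker (Bialgebra.counitAlgHom R A) ≤ J' := by
  let π : A →ₗ[R] A ⧸ J' := (Ideal.Quotient.mkₐ R J').toLinearMap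
  let N : Submodule R (A ⧸ J') :=
    Submodule.map π ((RingHom.ker (Bialgebra.counitAlgHom R A)).restrictScalars R)
  have hfg : N.FG := by
    let εbar : A ⧸ J' →ₐ[R] R :=
      Ideal.Quotient.liftₐ J' (Bialgebra.counitAlgHom R A) (fun a ha => hle ha)
    let p : A ⧸ J' →ₗ[R] A ⧸ J' :=
      LinearMap.id - (Algebra.linearMap R (A ⧸ J')).comp εbar.toLinearMap
    have hp : ∀ a : A, p (π a) = π (a - algebraMap R A (counit (R := R) a)) := by
      intro a
      show π a - algebraMap R (A ⧸ J') (εbar (Ideal.Quotient.mk J' a)) = _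
      rw [map_sub]
      congr 1
    have hN : N = LinearMap.range p := by
      apply le_antisymm
      · rintro _ ⟨a, ha, rfl⟩
        refine ⟨π a, ?_⟩
        rw [hp]
        have : counit (R := R) a = 0 := (mem_aug_iff a).mp ha
        rw [this, map_zero, sub_zero]
      · rintro _ ⟨b, rfl⟩
        obtain ⟨a, rfl⟩ := Ideal.Quotient.mk_surjective b
        exact ⟨a - algebraMap R A (counit (R := R) a), sub_counit_mem a, (hp a).symm⟩
    rw [hN, LinearMap.range_eq_map]
    exact Submodule.FG.map p Module.Finite.fg_top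
  have hsm : N ≤ (IsLocalRing.maximalIdeal R) • N := by
    rintro _ ⟨a, ha, rfl⟩
    obtain ⟨j, hj, y, hy, rfl⟩ := Submodule.mem_sup.mp (h ha)
    have hj0 : π j = 0 := Ideal.Quotient.eq_zero_iff_mem.mpr hj
    rw [map_add, hj0, zero_add]
    have hy' : y ∈ (IsLocalRing.maximalIdeal R) •
        ((RingHom.ker (Bialgebra.counitAlgHom R A)).restrictScalars R) := by
      rw [← Ideal.smul_restrictScalars, Ideal.smul_eq_mul]
      exact hy
    have h5 : π y ∈ Submodule.map π ((IsLocalRing.maximalIdeal R) •
        ((RingHom.ker (Bialgebra.counitAlgHom R A)).restrictScalars R)) := ⟨y, hy', rfl⟩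
    rwa [Submodule.map_smul''] at h5
  have hbot : N = ⊥ := Submodule.eq_bot_of_le_smul_of_le_jacobson_bot _ N hfg hsm
    (IsLocalRing.maximalIdeal_le_jacobson ⊥)
  intro a ha
  have h6 : π a ∈ N := ⟨a, ha, rfl⟩
  rw [hbot, Submodule.mem_bot] at h6
  exact Ideal.Quotient.eq_zero_iff_mem.mp h6

end aug

section torsfin

variable {R : Type u} [CommRing R] {A : Type u} [CommRing A] [HopfAlgebra R A]
variable (R' : Type u) [CommRing R'] [Algebra R R']

/-- the augmentation ideal of a base change is generated by the augmentation ideal -/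
lemma sub_counit_mem_map (y : R' ⊗[R] A) :
    y - algebraMap R' (R' ⊗[R] A) (counit (R := R') y) ∈
      Ideal.map (Algebra.TensorProduct.includeRight : A →ₐ[R] R' ⊗[R] A).toRingHom
        (RingHom.ker (Bialgebra.counitAlgHom R A)) := by
  induction y using TensorProduct.induction_on with
  | zero => simp
  | tmul r a =>
    have e1 : (r ⊗ₜ[R] a : R' ⊗[R] A) = r • ((1 : R') ⊗ₜ[R] a) := by
      rw [TensorProduct.smul_tmul', smul_eq_mul, mul_one]
    have e2 : r ⊗ₜ[R] a - algebraMap R' (R' ⊗[R] A) (counit (R := R') (r ⊗ₜ[R] a)) =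
        (r ⊗ₜ[R] (1 : A)) * ((1 : R') ⊗ₜ[R] (a - algebraMap R A (counit (R := R) a))) := by
      rw [Algebra.TensorProduct.tmul_mul_tmul, mul_one, one_mul, TensorProduct.tmul_sub]
      congr 1
      rw [e1, map_smul, MultType.counit_one_tmul, Algebra.TensorProduct.algebraMap_apply,
        Algebra.algebraMap_self_apply, smul_eq_mul, Algebra.algebraMap_eq_smul_one (A := A),
        Algebra.algebraMap_eq_smul_one (A := R'), TensorProduct.tmul_smul, mul_smul_comm, mul_one,
        TensorProduct.smul_tmul']
    rw [e2]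
    apply Ideal.mul_mem_left
    exact Ideal.mem_map_of_mem _ (sub_counit_mem _)
  | add y z hy hz =>
    have e : y + z - algebraMap R' (R' ⊗[R] A) (counit (R := R') (y + z)) =
        (y - algebraMap R' (R' ⊗[R] A) (counit (R := R') y)) +
          (z - algebraMap R' (R' ⊗[R] A) (counit (R := R') z)) := by
      rw [map_add, map_add]; ring
    rw [e]
    exact Ideal.add_mem _ hy hz

lemma ker_counit_baseChange_le :
    RingHom.ker (Bialgebra.counitAlgHom R' (R' ⊗[R] A)) ≤
      Ideal.map (Algebra.TensorProduct.includeRight : A →ₐ[R] R' ⊗[R] A).toRingHom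
        (RingHom.ker (Bialgebra.counitAlgHom R A)) := by
  intro y hy
  have h := sub_counit_mem_map (R := R) (A := A) R' y
  have h0 : counit (R := R') y = 0 := (mem_aug_iff y).mp hy
  rw [h0, map_zero, sub_zero] at h
  exact h

/-- the torsion ideals of a base change are generated by the torsion ideals -/
lemma torsionIdeal_baseChange_le (n : ℕ) :
    torsionIdeal R' (R' ⊗[R] A) n ≤
      Ideal.map (Algebra.TensorProduct.includeRight : A →ₐ[R] R' ⊗[R] A).toRingHom
        (torsionIdeal R A n) := by
  rw [torsionIdeal, Ideal.map_le_iff_le_comap]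
  intro y hy
  rw [Ideal.mem_comap]
  have hy' := ker_counit_baseChange_le (R := R) (A := A) R' hy
  rw [Ideal.map] at hy'
  refine Submodule.span_induction ?_ ?_ ?_ ?_ hy'
  · rintro _ ⟨a, ha, rfl⟩
    show powConv R' (R' ⊗[R] A) n ((1 : R') ⊗ₜ[R] a) ∈ _
    rw [MultType.powConv_one_tmul]
    exact Ideal.mem_map_of_mem _ (Ideal.mem_map_of_mem _ ha)
  · rw [map_zero]; exact Ideal.zero_mem _
  · intro x y _ _ hx hy
    rw [map_add]
    exact Ideal.add_mem _ hx hy
  · intro c x _ hx
    rw [smul_eq_mul, map_mul]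
    exact Ideal.mul_mem_left _ _ hx

end torsfin

section torsfin2

variable {R : Type u} [CommRing R] {A : Type u} [CommRing A] [HopfAlgebra R A]

/-- the torsion quotients of a group of multiplicative type and of finite type are finite -/
theorem finite_quot_torsionIdeal (hft : Algebra.FiniteType R A) (hH : IsMultType R A) (n : ℕ)
    (hn : 0 < n) : Module.Finite R (A ⧸ torsionIdeal R A n) := by
  haveI : Algebra.FiniteType R (A ⧸ torsionIdeal R A n) :=
    hft.of_surjective (Ideal.Quotient.mkₐ R (torsionIdeal R A n))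
      (Ideal.Quotient.mkₐ_surjective R (torsionIdeal R A n))
  apply MultType.IsMultType.finite_of_forall_chart hH
  intro R' _ _ _ hd
  obtain ⟨M, _, ⟨e⟩⟩ := hd
  let ψ : R' ⊗[R] A →ₐ[R'] R' ⊗[R] (A ⧸ torsionIdeal R A n) :=
    Algebra.TensorProduct.map (AlgHom.id R' R') (Ideal.Quotient.mkₐ R (torsionIdeal R A n))
  have hψsurj : Function.Surjective ψ := by
    intro z
    induction z using TensorProduct.induction_on with
    | zero => exact ⟨0, map_zero _⟩
    | tmul r a =>
      obtain ⟨a', rfl⟩ := Ideal.Quotient.mk_surjective a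
      exact ⟨r ⊗ₜ a', rfl⟩
    | add z w hz hw =>
      obtain ⟨z', rfl⟩ := hz
      obtain ⟨w', rfl⟩ := hw
      exact ⟨z' + w', map_add _ _ _⟩
  have hψ0 : ∀ y ∈ torsionIdeal R' (R' ⊗[R] A) n, ψ y = 0 := by
    intro y hy
    have hy' := torsionIdeal_baseChange_le (R := R) (A := A) R' n hy
    rw [Ideal.map] at hy'
    refine Submodule.span_induction ?_ ?_ ?_ ?_ hy'
    · rintro _ ⟨a, ha, rfl⟩
      show ψ ((1 : R') ⊗ₜ[R] a) = 0
      have : Ideal.Quotient.mkₐ R (torsionIdeal R A n) a = 0 :=
        Ideal.Quotient.eq_zero_iff_mem.mpr ha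
      simp [ψ, this]
    · exact map_zero _
    · intro x y _ _ hx hy
      rw [map_add, hx, hy, add_zero]
    · intro c x _ hx
      rw [smul_eq_mul, map_mul, hx, mul_zero]
  let g : MonoidAlgebra R' M →ₐ[R'] R' ⊗[R] (A ⧸ torsionIdeal R A n) :=
    ψ.comp ((e.symm : MonoidAlgebra R' M ≃ₐ[R'] R' ⊗[R] A) : MonoidAlgebra R' M →ₐ[R'] R' ⊗[R] A)
  have hg1 : ∀ m : M, g (MonoidAlgebra.single m 1) ^ n = 1 := by
    intro m
    have h1 : (MonoidAlgebra.single (m ^ n) (1 : R') - 1 : MonoidAlgebra R' M) ∈
        torsionIdeal R' (MonoidAlgebra R' M) n := by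
      have e0 : (MonoidAlgebra.single (m ^ n) (1 : R') - 1 : MonoidAlgebra R' M) =
          powConv R' (MonoidAlgebra R' M) n (MonoidAlgebra.single m 1 - 1) := by
        rw [map_sub, MultType.powConv_single, map_one]
      rw [e0]
      apply Ideal.mem_map_of_mem
      rw [mem_aug_iff, map_sub]
      simp [MonoidAlgebra.one_def]
    have h2 := TorsDense.bialgHom_mem_torsionIdeal
      (e.symm : MonoidAlgebra R' M →ₐc[R'] R' ⊗[R] A) n h1
    have h4 : g (MonoidAlgebra.single (m ^ n) 1 - 1) = 0 := hψ0 _ h2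
    rw [map_sub, map_one, sub_eq_zero] at h4
    rw [← map_pow, MonoidAlgebra.single_pow, one_pow]
    exact h4
  have hgsurj : Function.Surjective g := by
    intro z
    obtain ⟨y, rfl⟩ := hψsurj z
    exact ⟨e y, by simp [g]⟩
  haveI hint : Algebra.IsIntegral R' (R' ⊗[R] (A ⧸ torsionIdeal R A n)) := by
    constructor
    intro z
    obtain ⟨w, rfl⟩ := hgsurj z
    induction w using MonoidAlgebra.induction_linear with
    | zero => rw [map_zero]; exact isIntegral_zero
    | add x y hx hy => rw [map_add]; exact hx.add hy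
    | single m r =>
      have e0 : (MonoidAlgebra.single m r : MonoidAlgebra R' M) = r • MonoidAlgebra.single m 1 := by
        rw [MonoidAlgebra.smul_single, smul_eq_mul, mul_one]
      rw [e0, map_smul]
      apply IsIntegral.smul
      exact IsIntegral.of_pow hn (by rw [hg1]; exact isIntegral_one)
  haveI : Algebra.FiniteType R' (R' ⊗[R] (A ⧸ torsionIdeal R A n)) := inferInstance
  exact Algebra.IsIntegral.finite

end torsfin2

section divis

/-- a finitely generated commutative group in which every element is an `n`-th power for every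
`n > 0` is trivial -/
lemma eq_one_of_divisible {G : Type u} [CommGroup G] (hfg : Group.FG G)
    (h : ∀ n : ℕ, 0 < n → ∀ g : G, ∃ h : G, h ^ n = g) (g : G) : g = 1 := by
  haveI : Module.Finite ℤ (Additive G) :=
    Module.Finite.iff_addGroup_fg.mpr (GroupFG.iff_add_fg.mp hfg)
  have hle : (⊤ : Submodule ℤ (Additive G)) ≤ Ideal.span {(2 : ℤ)} • ⊤ := by
    intro x _
    obtain ⟨y, hy⟩ := h 2 (by norm_num) (Additive.toMul x)
    have : x = (2 : ℤ) • Additive.ofMul y := by
      apply Additive.toMul.injective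
      rw [← hy]
      simp [zpow_ofNat]
    rw [this]
    exact Submodule.smul_mem_smul (Ideal.subset_span rfl) trivial
  obtain ⟨r, hr1, hr2⟩ := Submodule.exists_sub_one_mem_and_smul_eq_zero_of_fg_of_le_smul
    (Ideal.span {(2 : ℤ)}) (⊤ : Submodule ℤ (Additive G)) Module.Finite.fg_top hle
  have hr0 : r ≠ 0 := by
    rintro rfl
    rw [Ideal.mem_span_singleton] at hr1
    omega
  obtain ⟨y, hy⟩ := h r.natAbs (Int.natAbs_pos.mpr hr0) g
  have h1 : r • Additive.ofMul y = 0 := hr2 _ trivial
  have h2 : (r.natAbs : ℤ) • Additive.ofMul y = 0 := by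
    rcases Int.natAbs_eq r with h3 | h3
    · rw [← h3]; exact h1
    · have : (r.natAbs : ℤ) = -r := by omega
      rw [this, neg_smul, h1, neg_zero]
  rw [← hy]
  have h3 : Additive.ofMul (y ^ r.natAbs) = 0 := by
    rw [ofMul_pow, ← natCast_zsmul]
    exact h2
  exact h3

end divis

end Groth.Agent.Lib.Helper6.ClTriv
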