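import Mathlib
import Groth.Prelude.Def_SGA3b
import Groth.Agent.Lib.Helper6.ClTriv.CT1

/-!
# Closed subgroups of groups of multiplicative type with trivial closed fibre (helper6), part 2

Field-valued points of a closed subgroup all of whose torsion levels are trivial.
-/

set_option autoImplicit false
set_option linter.unusedSectionVars false
set_option linter.unusedVariables false
set_option linter.unusedSimpArgs false
set_option linter.style.haveILetI false
set_option linter.overlappingInstances false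
set_option maxHeartbeats 800000
set_option synthInstance.maxHeartbeats 400000

universe u
open TensorProduct SGA3b Coalgebra

namespace Groth.Agent.Lib.Helper6.ClTriv

open Groth.Agent.Lib.Helper6

variable {R : Type u} [CommRing R] {A : Type u} [CommRing A] [HopfAlgebra R A]

/-- in a group algebra of the trivial group everything is a scalar -/
lemma eq_algebraMap_counit_of_trivial {L : Type u} [CommRing L] {G : Type u} [CommGroup G]
    (hG : ∀ g : G, g = 1) (w : MonoidAlgebra L G) :
    w = algebraMap L (MonoidAlgebra L G) (counit (R := L) w) := by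
  induction w using MonoidAlgebra.induction_linear with
  | zero => simp
  | add x y hx hy => rw [map_add, map_add, ← hx, ← hy]
  | single g r =>
    rw [hG g, MonoidAlgebra.counit_single, CommSemiring.counit_apply]
    rfl

theorem point_kills_aug (hft : Algebra.FiniteType R A) (J : Ideal A) [J.IsHopfIdeal R]
    (hn : ∀ n : ℕ, 0 < n →
      RingHom.ker (Bialgebra.counitAlgHom R A) ≤ J ⊔ torsionIdeal R A n)
    (L : Type u) [Field L] [Algebra R L] (hd : IsDiag L (L ⊗[R] A))
    (x : A →ₐ[R] L) (hx : ∀ j ∈ J, x j = 0) (a : A)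
    (ha : a ∈ RingHom.ker (Bialgebra.counitAlgHom R A)) : x a = 0 := by
  obtain ⟨M, _, ⟨e⟩⟩ := hd
  let q : MonoidAlgebra L M →ₐc[L] L ⊗[R] (A ⧸ J) :=
    (Bialgebra.TensorProduct.map (BialgHom.id L L)
      (Bialgebra.Quotient.mkBialgHom (R := R) J)).comp
      (e.symm : MonoidAlgebra L M →ₐc[L] L ⊗[R] A)
  have hq : Function.Surjective q := by
    intro y
    have hsurj : Function.Surjective
        (Bialgebra.TensorProduct.map (BialgHom.id L L)
          (Bialgebra.Quotient.mkBialgHom (R := R) J)) := by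
      intro z
      induction z using TensorProduct.induction_on with
      | zero => exact ⟨0, map_zero _⟩
      | tmul r a =>
        obtain ⟨a', rfl⟩ := Ideal.Quotient.mk_surjective a
        exact ⟨r ⊗ₜ a', rfl⟩
      | add z w hz hw =>
        obtain ⟨z', rfl⟩ := hz
        obtain ⟨w', rfl⟩ := hw
        exact ⟨z' + w', map_add _ _ _⟩
    obtain ⟨x', rfl⟩ := hsurj y
    exact ⟨e x', by simp [q]⟩
  obtain ⟨G, _, ⟨e'⟩⟩ := MultType.isDiag_of_surjective q hq
  haveI : Algebra.FiniteType R (A ⧸ J) :=
    hft.of_surjective (Ideal.Quotient.mkₐ R J) (Ideal.Quotient.mkₐ_surjective R J)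
  haveI : Algebra.FiniteType L (L ⊗[R] (A ⧸ J)) := inferInstance
  have hft' : Algebra.FiniteType L (MonoidAlgebra L G) :=
    Algebra.FiniteType.equiv inferInstance (e' : (L ⊗[R] (A ⧸ J)) ≃ₐ[L] MonoidAlgebra L G)
  have hGfg : Group.FG G := MonoidAlgebra.finiteType_iff_group_fg.mp hft'
  -- the augmentation ideal of `L ⊗ A/J` lies in all its torsion ideals
  have h1 : ∀ n : ℕ, 0 < n → RingHom.ker (Bialgebra.counitAlgHom L (L ⊗[R] (A ⧸ J))) ≤
      torsionIdeal L (L ⊗[R] (A ⧸ J)) n := by
    intro n hn0 y hy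
    have hy' := ker_counit_baseChange_le (R := R) (A := A ⧸ J) L hy
    rw [Ideal.map] at hy'
    refine Submodule.span_induction ?_ ?_ ?_ ?_ hy'
    · rintro _ ⟨b, hb, rfl⟩
      obtain ⟨a', rfl⟩ := Ideal.Quotient.mk_surjective b
      have ha' : a' ∈ RingHom.ker (Bialgebra.counitAlgHom R A) := by
        have hb' : counit (R := R) (Ideal.Quotient.mk J a') = 0 := (mem_aug_iff _).mp hb
        exact (mem_aug_iff a').mpr hb'
      obtain ⟨j, hj, t, ht, rfl⟩ := Submodule.mem_sup.mp (hn n hn0 ha')
      have e0 : Ideal.Quotient.mk J (j + t) = Bialgebra.Quotient.mkBialgHom (R := R) J t := by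
        rw [map_add, Ideal.Quotient.eq_zero_iff_mem.mpr hj, zero_add]
        rfl
      show (1 : L) ⊗ₜ[R] (Ideal.Quotient.mk J (j + t)) ∈ _
      rw [e0]
      exact TorsDense.one_tmul_mem_torsionIdeal L n
        (TorsDense.bialgHom_mem_torsionIdeal _ n ht)
    · exact Ideal.zero_mem _
    · intro _ _ _ _ h1 h2
      exact Ideal.add_mem _ h1 h2
    · intro c _ _ h
      exact Ideal.mul_mem_left _ c h
  -- so `G` is divisible
  have h2 : ∀ n : ℕ, 0 < n → ∀ g : G, ∃ h : G, h ^ n = g := by
    intro n hn0 g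
    have hz : (MonoidAlgebra.single g (1 : L) - 1 : MonoidAlgebra L G) ∈
        RingHom.ker (Bialgebra.counitAlgHom L (MonoidAlgebra L G)) := by
      rw [mem_aug_iff, map_sub]
      simp [MonoidAlgebra.one_def]
    have hz' : e'.symm (MonoidAlgebra.single g (1 : L) - 1) ∈
        RingHom.ker (Bialgebra.counitAlgHom L (L ⊗[R] (A ⧸ J))) := by
      rw [mem_aug_iff, CoalgHomClass.counit_comp_apply]
      exact (mem_aug_iff _).mp hz
    have h3 := TorsDense.bialgHom_mem_torsionIdeal
      (e' : (L ⊗[R] (A ⧸ J)) →ₐc[L] MonoidAlgebra L G) n (h1 n hn0 hz')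
    have e1 : (e' : (L ⊗[R] (A ⧸ J)) →ₐc[L] MonoidAlgebra L G)
        (e'.symm (MonoidAlgebra.single g (1 : L) - 1)) = MonoidAlgebra.single g (1 : L) - 1 :=
      e'.apply_symm_apply _
    rw [e1] at h3
    have h4 := TorsDense.torsionIdeal_le_ker_quotPow n h3
    rw [RingHom.mem_ker, map_sub, map_one, TorsDense.quotPow_single, sub_eq_zero,
      MonoidAlgebra.one_def] at h4
    have h5 : QuotientGroup.mk' (powMonoidHom n : G →* G).range g = 1 :=
      MonoidAlgebra.of_injective (R := L) h4
    have h6 : g ∈ (powMonoidHom n : G →* G).range := by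
      rw [← QuotientGroup.ker_mk' (powMonoidHom n : G →* G).range, MonoidHom.mem_ker]
      exact h5
    obtain ⟨h, hh⟩ := h6
    exact ⟨h, hh⟩
  have hG : ∀ g : G, g = 1 := eq_one_of_divisible hGfg h2
  -- hence `L ⊗ A/J = L`
  have h3 : ∀ y : L ⊗[R] (A ⧸ J), y = algebraMap L _ (counit (R := L) y) := by
    intro y
    have h := eq_algebraMap_counit_of_trivial hG (e' y)
    rw [CoalgHomClass.counit_comp_apply] at h
    have h' : y = e'.symm (algebraMap L (MonoidAlgebra L G) (counit (R := L) y)) := by
      have h'' := congrArg e'.symm h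
      rwa [e'.symm_apply_apply] at h''
    calc y = e'.symm (algebraMap L (MonoidAlgebra L G) (counit (R := L) y)) := h'
      _ = algebraMap L _ (counit (R := L) y) :=
        AlgEquiv.commutes (e'.symm : MonoidAlgebra L G ≃ₐ[L] L ⊗[R] (A ⧸ J)) _
  let xt : L ⊗[R] (A ⧸ J) →ₐ[L] L :=
    Algebra.TensorProduct.lift (Algebra.ofId L L) (Ideal.Quotient.liftₐ J x hx)
      (fun _ _ => Commute.all _ _)
  have h4 := h3 ((1 : L) ⊗ₜ[R] (Ideal.Quotient.mk J a))
  rw [MultType.counit_one_tmul] at h4
  have h5 : counit (R := R) (Ideal.Quotient.mk J a) = 0 := (mem_aug_iff a).mp ha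
  rw [h5, map_zero, map_zero] at h4
  have h6 := congrArg xt h4
  rw [map_zero] at h6
  have h7 : xt ((1 : L) ⊗ₜ[R] (Ideal.Quotient.mk J a)) = x a := by
    simp [xt]
  rw [← h7]
  exact h6

end Groth.Agent.Lib.Helper6.ClTriv
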