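import Mathlib
import Groth.Prelude.Def_SGA3b
import Groth.Agent.Lib.Helper6.ClTriv.CT2
import Groth.Agent.Lib.Helper6.IsoNil.IN1

/-!
# Closed subgroups of groups of multiplicative type with trivial closed fibre (helper6), part 3

Over a local base, a closed subgroup scheme of a group of multiplicative type and of finite type
whose closed fibre is trivial is trivial.
-/

set_option autoImplicit false
set_option linter.unusedSectionVars false
set_option linter.unusedVariables false
set_option linter.unusedSimpArgs false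
set_option linter.style.haveILetI false
set_option linter.overlappingInstances false
set_option maxHeartbeats 800000
set_option synthInstance.maxHeartbeats 400000

universe u
open TensorProduct SGA3b Coalgebra

namespace Groth.Agent.Lib.Helper6.ClTriv

open Groth.Agent.Lib.Helper6

variable {R : Type u} [CommRing R] {A : Type u} [CommRing A] [HopfAlgebra R A]

/-- every field-valued point of the closed subgroup is trivial, for a point with values in a
fraction field of a quotient of `A` -/
theorem mem_prime_of_aug (hft : Algebra.FiniteType R A) (hH : IsMultType R A) (J : Ideal A)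
    [J.IsHopfIdeal R]
    (hn : ∀ n : ℕ, 0 < n →
      RingHom.ker (Bialgebra.counitAlgHom R A) ≤ J ⊔ torsionIdeal R A n)
    (P : Ideal A) [P.IsPrime] (hJP : J ≤ P) (c : A)
    (hc : c ∈ RingHom.ker (Bialgebra.counitAlgHom R A)) : c ∈ P := by
  let L₀ := FractionRing (A ⧸ P)
  have hH₀ : IsMultType L₀ (L₀ ⊗[R] A) := IsoNil.IsMultType.baseChange hH L₀
  obtain ⟨L, _, _, hd⟩ := MultType.IsMultType.exists_field_chart hH₀
  letI : Algebra R L := ((algebraMap L₀ L).comp (algebraMap R L₀)).toAlgebra
  haveI : IsScalarTower R L₀ L := IsScalarTower.of_algebraMap_eq' rfl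
  have hd' : IsDiag L (L ⊗[R] A) := MultType.IsDiag.of_tower L₀ L hd
  let x : A →ₐ[R] L :=
    (IsScalarTower.toAlgHom R L₀ L).comp
      ((IsScalarTower.toAlgHom R (A ⧸ P) L₀).comp (Ideal.Quotient.mkₐ R P))
  have hxa : ∀ a : A, x a = algebraMap L₀ L (algebraMap (A ⧸ P) L₀ (Ideal.Quotient.mk P a)) :=
    fun a => rfl
  have hx : ∀ j ∈ J, x j = 0 := by
    intro j hj
    rw [hxa, Ideal.Quotient.eq_zero_iff_mem.mpr (hJP hj), map_zero, map_zero]
  have h := point_kills_aug hft J hn L hd' x hx c hc
  rw [hxa] at h
  have h1 : algebraMap (A ⧸ P) L₀ (Ideal.Quotient.mk P c) = 0 :=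
    (algebraMap L₀ L).injective (by rw [h, map_zero])
  have h2 : Ideal.Quotient.mk P c = 0 :=
    IsFractionRing.injective (A ⧸ P) L₀ (by rw [h1, map_zero])
  exact Ideal.Quotient.eq_zero_iff_mem.mp h2

/-- SGA 3 IX 6.?: over a local base, a closed subgroup scheme of a group of multiplicative type
and of finite type whose closed fibre is the unit subgroup is the unit subgroup. -/
theorem eq_aug_of_closedFibre [IsLocalRing R] (hft : Algebra.FiniteType R A)
    (hH : IsMultType R A) (J : Ideal A) [J.IsHopfIdeal R]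
    (hs : J ⊔ Ideal.map (algebraMap R A) (IsLocalRing.maximalIdeal R) =
      RingHom.ker (Bialgebra.counitAlgHom R A) ⊔
        Ideal.map (algebraMap R A) (IsLocalRing.maximalIdeal R)) :
    J = RingHom.ker (Bialgebra.counitAlgHom R A) := by
  have hJle : J ≤ RingHom.ker (Bialgebra.counitAlgHom R A) := by
    intro j hj
    rw [mem_aug_iff]
    exact Submodule.IsCoideal.counit_eq_zero (I := J.restrictScalars R) hj
  have hA1 : RingHom.ker (Bialgebra.counitAlgHom R A) ≤
      J ⊔ Ideal.map (algebraMap R A) (IsLocalRing.maximalIdeal R) *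
        RingHom.ker (Bialgebra.counitAlgHom R A) :=
    aug_le_sup_mul _ J hJle (by rw [hs]; exact le_sup_left)
  -- all torsion levels are trivial
  have hn : ∀ n : ℕ, 0 < n →
      RingHom.ker (Bialgebra.counitAlgHom R A) ≤ J ⊔ torsionIdeal R A n := by
    intro n hn0
    have hfin0 : Module.Finite R (A ⧸ torsionIdeal R A n) :=
      finite_quot_torsionIdeal hft hH n hn0
    have hfin : Module.Finite R (A ⧸ (J ⊔ torsionIdeal R A n)) :=
      Module.Finite.of_surjective
        (Ideal.Quotient.factorₐ R (le_sup_right : torsionIdeal R A n ≤ J ⊔ torsionIdeal R A n)).toLinearMap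
        (Ideal.Quotient.factor_surjective
          (le_sup_right : torsionIdeal R A n ≤ J ⊔ torsionIdeal R A n))
    apply aug_le_of_finite_quot _ hfin (sup_le hJle (torsionIdeal_le_aug n))
    exact hA1.trans (sup_le_sup_right le_sup_left _)
  -- Nakayama over `A`
  let N : Submodule A (A ⧸ J) :=
    Submodule.map (Submodule.mkQ J) (RingHom.ker (Bialgebra.counitAlgHom R A))
  have hNfg : N.FG := Submodule.FG.map _ (aug_fg hft)
  have hNle : N ≤ Ideal.map (algebraMap R A) (IsLocalRing.maximalIdeal R) • N := by
    rintro _ ⟨a, ha, rfl⟩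
    obtain ⟨j, hj, y, hy, rfl⟩ := Submodule.mem_sup.mp (hA1 ha)
    have hj0 : Submodule.mkQ J j = 0 := (Submodule.Quotient.mk_eq_zero J).mpr hj
    rw [map_add, hj0, zero_add]
    have h5 : Submodule.mkQ J y ∈ Submodule.map (Submodule.mkQ J)
        (Ideal.map (algebraMap R A) (IsLocalRing.maximalIdeal R) •
          (RingHom.ker (Bialgebra.counitAlgHom R A) : Submodule A A)) := by
      refine ⟨y, ?_, rfl⟩
      rw [Ideal.smul_eq_mul]
      exact hy
    rwa [Submodule.map_smul''] at h5
  obtain ⟨b, hb1, hb2⟩ := Submodule.exists_sub_one_mem_and_smul_eq_zero_of_fg_of_le_smul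
    (Ideal.map (algebraMap R A) (IsLocalRing.maximalIdeal R)) N hNfg hNle
  have hb3 : ∀ a ∈ RingHom.ker (Bialgebra.counitAlgHom R A), b * a ∈ J := by
    intro a ha
    have h := hb2 (Submodule.mkQ J a) ⟨a, ha, rfl⟩
    rw [← map_smul, smul_eq_mul] at h
    exact (Submodule.Quotient.mk_eq_zero J).mp h
  -- the counit of `b` is a unit
  have hr1 : counit (R := R) b - 1 ∈ IsLocalRing.maximalIdeal R := by
    have h := (counit_mem_of_mem_map (IsLocalRing.maximalIdeal R) hb1).1
    rw [map_sub] at h
    have h1 : counit (R := R) (1 : A) = 1 := Bialgebra.counit_one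
    rw [h1] at h
    exact h
  have hru : IsUnit (counit (R := R) b) := by
    rw [← IsLocalRing.notMem_maximalIdeal]
    intro hmem
    have : (1 : R) ∈ IsLocalRing.maximalIdeal R := by
      have := Ideal.sub_mem _ hmem hr1
      rwa [sub_sub_cancel] at this
    exact (Ideal.ne_top_iff_one _).mp (IsLocalRing.maximalIdeal.isMaximal R).ne_top this
  obtain ⟨u, hu⟩ := hru
  let c : A := -(algebraMap R A ((u⁻¹ : Rˣ) : R)) * (b - algebraMap R A (counit (R := R) b))
  have hcI : c ∈ RingHom.ker (Bialgebra.counitAlgHom R A) :=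
    Ideal.mul_mem_left _ _ (sub_counit_mem b)
  have hca : ∀ a ∈ RingHom.ker (Bialgebra.counitAlgHom R A), a - c * a ∈ J := by
    intro a ha
    have e0 : a - c * a = algebraMap R A ((u⁻¹ : Rˣ) : R) * (b * a) := by
      have e1 : algebraMap R A ((u⁻¹ : Rˣ) : R) * algebraMap R A (counit (R := R) b) = 1 := by
        rw [← map_mul, ← hu, Units.inv_mul, map_one]
      have e2 : a - c * a = algebraMap R A ((u⁻¹ : Rˣ) : R) * (b * a) +
          (1 - algebraMap R A ((u⁻¹ : Rˣ) : R) * algebraMap R A (counit (R := R) b)) * a := by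
        simp only [c]; ring
      rw [e2, e1, sub_self, zero_mul, add_zero]
    rw [e0]
    exact Ideal.mul_mem_left _ _ (hb3 a ha)
  -- `c` lies in the radical of `J`
  have hcrad : c ∈ J.radical := by
    rw [Ideal.radical_eq_sInf, Ideal.mem_sInf]
    rintro P ⟨hJP, hP⟩
    haveI := hP
    exact mem_prime_of_aug hft hH J hn P hJP c hcI
  obtain ⟨k, hk⟩ := hcrad
  apply le_antisymm hJle
  intro a ha
  have hind : ∀ i : ℕ, a - c ^ i * a ∈ J := by
    intro i
    induction i with
    | zero => simp
    | succ i ih =>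
      have e : a - c ^ (i + 1) * a = (a - c ^ i * a) + c ^ i * (a - c * a) := by ring
      rw [e]
      exact Ideal.add_mem _ ih (Ideal.mul_mem_left _ _ (hca a ha))
  have e : a = (a - c ^ k * a) + c ^ k * a := by ring
  rw [e]
  exact Ideal.add_mem _ (hind k) (Ideal.mul_mem_right _ _ hk)

end Groth.Agent.Lib.Helper6.ClTriv
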